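import Mathlib

set_option autoImplicit false
universe u

namespace Groth.Agent.AdjPowLib

variable {p : ℕ} [Fact p.Prime] {k₀ K₀ : Type u} [Field k₀] [Field K₀] [Algebra k₀ K₀] [CharP k₀ p]

theorem adjoin_decomp (hfin : Module.Finite (Subfield.closure (Set.range fun x : k₀ => x ^ p)) k₀) :
    ∃ (m : ℕ) (b : Fin m → k₀), ∀ x ∈ Subfield.closure (Set.range (algebraMap k₀ K₀) ∪ Set.range fun y : K₀ => y ^ p),
      ∃ c : Fin m → K₀, x = ∑ i, algebraMap k₀ K₀ (b i) * (c i) ^ p := by
  haveI : CharP K₀ p := charP_of_injective_algebraMap (algebraMap k₀ K₀).injective p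
  have hp : p.Prime := Fact.out
  obtain ⟨m, b, hb⟩ := Module.Finite.exists_fin (R := Subfield.closure (Set.range fun x : k₀ => x ^ p)) (M := k₀)
  refine ⟨m, b, ?_⟩
  have hpow : ∀ z ∈ Subfield.closure (Set.range fun x : k₀ => x ^ p), ∃ w : k₀, z = w ^ p := by
    intro z hz
    induction hz using Subfield.closure_induction with
    | mem z hz => obtain ⟨w, rfl⟩ := hz; exact ⟨w, rfl⟩
    | one => exact ⟨1, (one_pow p).symm⟩
    | add z z' _ _ h h' =>
      obtain ⟨w, rfl⟩ := h; obtain ⟨w', rfl⟩ := h'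
      exact ⟨w + w', (add_pow_char (p := p) w w').symm⟩
    | neg z _ h =>
      obtain ⟨w, rfl⟩ := h
      refine ⟨-w, ?_⟩
      rw [← frobenius_def, ← frobenius_def, map_neg]
    | inv z _ h => obtain ⟨w, rfl⟩ := h; exact ⟨w⁻¹, (inv_pow w p).symm⟩
    | mul z z' _ _ h h' => obtain ⟨w, rfl⟩ := h; obtain ⟨w', rfl⟩ := h'; exact ⟨w * w', (mul_pow w w' p).symm⟩
  let S : AddSubgroup K₀ :=
    { carrier := {x | ∃ c : Fin m → K₀, x = ∑ i, algebraMap k₀ K₀ (b i) * (c i) ^ p}
      add_mem' := fun {x y} hx hy => by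
        obtain ⟨c, rfl⟩ := hx; obtain ⟨d, rfl⟩ := hy
        refine ⟨c + d, ?_⟩
        rw [← Finset.sum_add_distrib]
        exact Finset.sum_congr rfl fun i _ => by rw [Pi.add_apply, add_pow_char, mul_add]
      zero_mem' := ⟨0, by simp [hp.ne_zero]⟩
      neg_mem' := fun {x} hx => by
        obtain ⟨c, rfl⟩ := hx
        refine ⟨-c, ?_⟩
        rw [← Finset.sum_neg_distrib]
        refine Finset.sum_congr rfl fun i _ => ?_
        rw [Pi.neg_apply, ← frobenius_def, ← frobenius_def, map_neg, mul_neg] }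
  have hS : ∀ a : k₀, ∀ c : K₀, algebraMap k₀ K₀ a * c ^ p ∈ S := by
    intro a c
    obtain ⟨e, he⟩ := (Submodule.mem_span_range_iff_exists_fun _).mp (hb ▸ Submodule.mem_top : a ∈ Submodule.span _ (Set.range b))
    have hw := fun i => hpow _ (e i).2
    choose w hw using hw
    refine ⟨fun i => algebraMap k₀ K₀ (w i) * c, ?_⟩
    rw [← he, map_sum, Finset.sum_mul]
    refine Finset.sum_congr rfl fun i _ => ?_
    rw [mul_pow, ← map_pow, ← hw i, Subfield.smul_def, smul_eq_mul, map_mul]
    ring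
  have hmul : ∀ x ∈ S, ∀ y ∈ S, x * y ∈ S := by
    rintro x ⟨c, rfl⟩ y ⟨d, rfl⟩
    rw [Finset.sum_mul_sum]
    refine S.sum_mem fun i _ => S.sum_mem fun j _ => ?_
    rw [show algebraMap k₀ K₀ (b i) * c i ^ p * (algebraMap k₀ K₀ (b j) * d j ^ p) =
      algebraMap k₀ K₀ (b i * b j) * (c i * d j) ^ p by rw [map_mul, mul_pow]; ring]
    exact hS _ _
  intro x hx
  show x ∈ S
  induction hx using Subfield.closure_induction with
  | mem z hz =>
    rcases hz with ⟨a, rfl⟩ | ⟨y, rfl⟩
    · simpa using hS a 1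
    · simpa using hS 1 y
  | one => simpa using hS 1 1
  | add z z' _ _ h h' => exact S.add_mem h h'
  | neg z _ h => exact S.neg_mem h
  | inv z _ h =>
    have hz : z⁻¹ = z ^ (p - 1) * (z⁻¹) ^ p := by
      rcases eq_or_ne z 0 with rfl | hz
      · simp [hp.ne_zero]
      · rw [inv_pow, eq_comm]
        obtain ⟨q, rfl⟩ : ∃ q, p = q + 1 := ⟨p - 1, by have := hp.pos; omega⟩
        simp only [Nat.add_sub_cancel, pow_succ]
        field_simp
    have h1 : ∀ n : ℕ, z ^ n ∈ S := by
      intro n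
      induction n with
      | zero => simpa using hS 1 1
      | succ n ih => rw [pow_succ]; exact hmul _ ih _ h
    rw [hz]
    exact hmul _ (h1 _) _ (by simpa using hS 1 z⁻¹)
  | mul z z' _ _ h h' => exact hmul _ h _ h'

theorem adjoin_pow_eq (hfin : Module.Finite (Subfield.closure (Set.range fun x : k₀ => x ^ p)) k₀) (r : ℕ) :
    Subfield.closure (algebraMap (MvPowerSeries (Fin r) K₀) (FractionRing (MvPowerSeries (Fin r) K₀)) ''
        {f | ∀ n, MvPowerSeries.coeff n f ∈
          Subfield.closure (Set.range (algebraMap k₀ K₀) ∪ Set.range fun y : K₀ => y ^ p)}) =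
      Subfield.closure
        (Set.range (algebraMap k₀ (FractionRing (MvPowerSeries (Fin r) K₀))) ∪
          (Subfield.closure (algebraMap (MvPowerSeries (Fin r) K₀) (FractionRing (MvPowerSeries (Fin r) K₀)) ''
            {f | ∀ n, MvPowerSeries.coeff n f ∈ Subfield.closure (Set.range fun y : K₀ => y ^ p)}) :
            Set (FractionRing (MvPowerSeries (Fin r) K₀)))) := by
  classical
  obtain ⟨m, b, hb⟩ := adjoin_decomp (K₀ := K₀) hfin
  apply le_antisymm
  · rw [Subfield.closure_le]
    rintro _ ⟨f, hf, rfl⟩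
    choose c hc using fun n => hb _ (hf n)
    let g : Fin m → MvPowerSeries (Fin r) K₀ := fun i n => c n i ^ p
    have hfe : f = ∑ i, algebraMap k₀ (MvPowerSeries (Fin r) K₀) (b i) * g i := by
      ext n
      rw [hc n, map_sum]
      refine Finset.sum_congr rfl fun i _ => ?_
      rw [MvPowerSeries.algebraMap_apply, MvPowerSeries.coeff_C_mul]
      rfl
    rw [hfe, map_sum]
    refine Subfield.sum_mem _ fun i _ => ?_
    rw [map_mul, ← IsScalarTower.algebraMap_apply]
    refine Subfield.mul_mem _ (Subfield.subset_closure (Or.inl ⟨_, rfl⟩)) ?_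
    refine Subfield.subset_closure (Or.inr (Subfield.subset_closure ⟨_, fun n => ?_, rfl⟩))
    exact Subfield.subset_closure ⟨c n i, rfl⟩
  · rw [Subfield.closure_le]
    rintro _ (⟨a, rfl⟩ | hx)
    · refine Subfield.subset_closure ⟨algebraMap k₀ _ a, fun n => ?_, (IsScalarTower.algebraMap_apply _ _ _ a).symm⟩
      rw [MvPowerSeries.algebraMap_apply, MvPowerSeries.coeff_C]
      split
      · exact Subfield.subset_closure (Or.inl ⟨a, rfl⟩)
      · exact Subfield.zero_mem _
    · refine Subfield.closure_mono (Set.image_mono fun f hf n => ?_) hx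
      exact Subfield.closure_mono Set.subset_union_right (hf n)

end Groth.Agent.AdjPowLib
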